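import Cfsg.Agent.Lib.Helper29.S1687.Data

set_option autoImplicit false

namespace Cfsg.Agent.Lib.Helper29.S1687

open Cfsg.Agent.Lib.Helper29.TcTrace Cfsg.Agent.Lib.Helper29.TcCert Cfsg.Agent.Lib.Helper29.TcPerm

theorem lblk_0 : chkPBlk P 5 31 128 3510 0 0x19d05424e841d0441529410461988519d05424e841d0441529410462152741d094a082415281988549d0742528209054a0654a0484a06939528121281a4e940d273250349cc83950729c8720c6210560 = true := by decide +kernel
theorem lblk_1 : chkPBlk P 5 31 128 3510 1 0x398a61148410ce8418634188548c8248d27408693a0e8310e8415293a125398461988219d0621d054a4e91a4e819d044150549d05414e6118662086741887415293a4693a06741105415274150619885 = true := by decide +kernel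
theorem lblk_2 : chkPBlk P 5 31 128 3510 2 0x49ca849c8339525324c51904339d0541cc2120682a445221241152349d041246938d27420c31a4e7418882952349ca9394e629845210433a10618d06215232092349d021a4e83a0c43a1054a4e84a4e5 = true := by decide +kernel
theorem lblk_3 : chkPBlk P 5 31 128 3510 3 0x28d092a486415241152349ca44904548c821a4e82a0e6109231a4e841867218882a44548c8849c8339525324c51904339d0541cc2120682a445221241152349d041246938d27420c31a4e74188829523 = true := by decide +kernel
theorem lblk_4 : chkPBlk P 5 31 128 3510 4 0x220a9208684a4e41a4e4490a9498e5188682a0e6120a9498a3424a9219054904548d272912411523208693a0a83984248c693a10619c86220a9115232212939069391242a526394621a0a8398482a526 = true := by decide +kernel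
theorem lblk_5 : chkPBlk P 5 31 128 3510 5 0x10c661a0c441526220a920867420a9191091a4e34a4854a4e6208834150542526394e82a4c8494682a4a9218882a4822a46928d254912411484124e841ca839909208491a5282a0e610c661a0c441526 = true := by decide +kernel
theorem lblk_6 : chkPBlk P 5 31 128 3510 6 0x2a0e611c473092830d06220a61a0c44152921c47420a9191091a4e34a4854a4e6208834150542526394e82a4c8494682a4a9218882a4822a46928d254912411484124e841ca839909208491a5282a0e6 = true := by decide +kernel
theorem lo_0_1 : ∀ b, 0 ≤ b → b < 1 → ∃ J, chkPBlk P 5 31 128 3510 b J = true := fun b h1 h2 => by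
  have hb : b = 0 := Nat.le_antisymm (Nat.le_of_lt_succ h2) h1
  subst hb; exact ⟨_, lblk_0⟩
theorem lo_1_2 : ∀ b, 1 ≤ b → b < 2 → ∃ J, chkPBlk P 5 31 128 3510 b J = true := fun b h1 h2 => by
  have hb : b = 1 := Nat.le_antisymm (Nat.le_of_lt_succ h2) h1
  subst hb; exact ⟨_, lblk_1⟩
theorem lo_2_3 : ∀ b, 2 ≤ b → b < 3 → ∃ J, chkPBlk P 5 31 128 3510 b J = true := fun b h1 h2 => by
  have hb : b = 2 := Nat.le_antisymm (Nat.le_of_lt_succ h2) h1
  subst hb; exact ⟨_, lblk_2⟩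
theorem lo_1_3 : ∀ b, 1 ≤ b → b < 3 → ∃ J, chkPBlk P 5 31 128 3510 b J = true := fun b h1 h2 =>
  if h : b < 2 then lo_1_2 b h1 h else lo_2_3 b (Nat.le_of_not_lt h) h2
theorem lo_0_3 : ∀ b, 0 ≤ b → b < 3 → ∃ J, chkPBlk P 5 31 128 3510 b J = true := fun b h1 h2 =>
  if h : b < 1 then lo_0_1 b h1 h else lo_1_3 b (Nat.le_of_not_lt h) h2
theorem lo_3_4 : ∀ b, 3 ≤ b → b < 4 → ∃ J, chkPBlk P 5 31 128 3510 b J = true := fun b h1 h2 => by
  have hb : b = 3 := Nat.le_antisymm (Nat.le_of_lt_succ h2) h1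
  subst hb; exact ⟨_, lblk_3⟩
theorem lo_4_5 : ∀ b, 4 ≤ b → b < 5 → ∃ J, chkPBlk P 5 31 128 3510 b J = true := fun b h1 h2 => by
  have hb : b = 4 := Nat.le_antisymm (Nat.le_of_lt_succ h2) h1
  subst hb; exact ⟨_, lblk_4⟩
theorem lo_3_5 : ∀ b, 3 ≤ b → b < 5 → ∃ J, chkPBlk P 5 31 128 3510 b J = true := fun b h1 h2 =>
  if h : b < 4 then lo_3_4 b h1 h else lo_4_5 b (Nat.le_of_not_lt h) h2
theorem lo_5_6 : ∀ b, 5 ≤ b → b < 6 → ∃ J, chkPBlk P 5 31 128 3510 b J = true := fun b h1 h2 => by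
  have hb : b = 5 := Nat.le_antisymm (Nat.le_of_lt_succ h2) h1
  subst hb; exact ⟨_, lblk_5⟩
theorem lo_6_7 : ∀ b, 6 ≤ b → b < 7 → ∃ J, chkPBlk P 5 31 128 3510 b J = true := fun b h1 h2 => by
  have hb : b = 6 := Nat.le_antisymm (Nat.le_of_lt_succ h2) h1
  subst hb; exact ⟨_, lblk_6⟩
theorem lo_5_7 : ∀ b, 5 ≤ b → b < 7 → ∃ J, chkPBlk P 5 31 128 3510 b J = true := fun b h1 h2 =>
  if h : b < 6 then lo_5_6 b h1 h else lo_6_7 b (Nat.le_of_not_lt h) h2
theorem lo_3_7 : ∀ b, 3 ≤ b → b < 7 → ∃ J, chkPBlk P 5 31 128 3510 b J = true := fun b h1 h2 =>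
  if h : b < 5 then lo_3_5 b h1 h else lo_5_7 b (Nat.le_of_not_lt h) h2
theorem lo_0_7 : ∀ b, 0 ≤ b → b < 7 → ∃ J, chkPBlk P 5 31 128 3510 b J = true := fun b h1 h2 =>
  if h : b < 3 then lo_0_3 b h1 h else lo_3_7 b (Nat.le_of_not_lt h) h2

end Cfsg.Agent.Lib.Helper29.S1687
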