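import Cfsg.Agent.Lib.Helper29.S1687.Data

set_option autoImplicit false

namespace Cfsg.Agent.Lib.Helper29.S1687

open Cfsg.Agent.Lib.Helper29.TcTrace Cfsg.Agent.Lib.Helper29.TcCert Cfsg.Agent.Lib.Helper29.TcPerm

theorem lblk_7 : chkPBlk P 5 31 128 3510 7 0x1a0c44152921c473a0c82a4453a1244152349ca919527310e82a129398874190549d0549927291054990549468311054952441522424a54a4a34952449465224e83912740d072a12922124125293a107 = true := by decide +kernel
theorem lblk_8 : chkPBlk P 5 31 128 3510 8 0x3a1244152349ca919527310e82a129398874190549d0549927291054990549468311054952441522424a54a4a34952449465224e83912740d072a12922124125293a1072a0e611c473092830d06220a6 = true := by decide +kernel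
theorem lblk_9 : chkPBlk P 5 31 128 3510 9 0x2a4c93952840c882a4c82a4a3420a93a124414a949ca949468495251a4e349d0440ce43a0a848d092150939d093912740d072a0e839cc941cc241868310a73092841867418882a0a91a0e73a0c82a445 = true := by decide +kernel
theorem lblk_10 : chkPBlk P 5 31 128 3510 10 0x490a849ce849c893a0683950741ce64a0e6120c34188539849420c33a0c44150548d073a0c82a5233a1253a0c82a48241528198a9394a33a0e82a1293a4e63a0c828ce8320a94152849cc4418882a488 = true := by decide +kernel
theorem lblk_11 : chkPBlk P 5 31 128 3510 11 0x19d0929d0641524120a940cc549ca519d074150949d2731d0641467419054a0a9424e6220c4415244152649ca94206441526415251a10549d09220a54a4e54a4a3424a928d271a4e82206721d0542468 = true := by decide +kernel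
theorem lblk_12 : chkPBlk P 5 31 128 3510 12 0x29105499272a4e8414e849d082952849c884a4e54250920d274152820ce33a0e82a4e819527420693a08740d27225034a1033a4e83a0e641c4830d274a0a83984841867418874110549d2819d0641529 = true := by decide +kernel
theorem lblk_13 : chkPBlk P 5 31 128 3510 13 0x3a4e83a0e641c4830d274a0a83984841867418874110549d2819d0829067415233a0c82a52641528208c54a12719d07420a9415293a0e8320a8311054a0a94252742068311054a0a9424e6225281a0c4 = true := by decide +kernel
theorem lo_7_8 : ∀ b, 7 ≤ b → b < 8 → ∃ J, chkPBlk P 5 31 128 3510 b J = true := fun b h1 h2 => by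
  have hb : b = 7 := Nat.le_antisymm (Nat.le_of_lt_succ h2) h1
  subst hb; exact ⟨_, lblk_7⟩
theorem lo_8_9 : ∀ b, 8 ≤ b → b < 9 → ∃ J, chkPBlk P 5 31 128 3510 b J = true := fun b h1 h2 => by
  have hb : b = 8 := Nat.le_antisymm (Nat.le_of_lt_succ h2) h1
  subst hb; exact ⟨_, lblk_8⟩
theorem lo_9_10 : ∀ b, 9 ≤ b → b < 10 → ∃ J, chkPBlk P 5 31 128 3510 b J = true := fun b h1 h2 => by
  have hb : b = 9 := Nat.le_antisymm (Nat.le_of_lt_succ h2) h1
  subst hb; exact ⟨_, lblk_9⟩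
theorem lo_8_10 : ∀ b, 8 ≤ b → b < 10 → ∃ J, chkPBlk P 5 31 128 3510 b J = true := fun b h1 h2 =>
  if h : b < 9 then lo_8_9 b h1 h else lo_9_10 b (Nat.le_of_not_lt h) h2
theorem lo_7_10 : ∀ b, 7 ≤ b → b < 10 → ∃ J, chkPBlk P 5 31 128 3510 b J = true := fun b h1 h2 =>
  if h : b < 8 then lo_7_8 b h1 h else lo_8_10 b (Nat.le_of_not_lt h) h2
theorem lo_10_11 : ∀ b, 10 ≤ b → b < 11 → ∃ J, chkPBlk P 5 31 128 3510 b J = true := fun b h1 h2 => by
  have hb : b = 10 := Nat.le_antisymm (Nat.le_of_lt_succ h2) h1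
  subst hb; exact ⟨_, lblk_10⟩
theorem lo_11_12 : ∀ b, 11 ≤ b → b < 12 → ∃ J, chkPBlk P 5 31 128 3510 b J = true := fun b h1 h2 => by
  have hb : b = 11 := Nat.le_antisymm (Nat.le_of_lt_succ h2) h1
  subst hb; exact ⟨_, lblk_11⟩
theorem lo_10_12 : ∀ b, 10 ≤ b → b < 12 → ∃ J, chkPBlk P 5 31 128 3510 b J = true := fun b h1 h2 =>
  if h : b < 11 then lo_10_11 b h1 h else lo_11_12 b (Nat.le_of_not_lt h) h2
theorem lo_12_13 : ∀ b, 12 ≤ b → b < 13 → ∃ J, chkPBlk P 5 31 128 3510 b J = true := fun b h1 h2 => by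
  have hb : b = 12 := Nat.le_antisymm (Nat.le_of_lt_succ h2) h1
  subst hb; exact ⟨_, lblk_12⟩
theorem lo_13_14 : ∀ b, 13 ≤ b → b < 14 → ∃ J, chkPBlk P 5 31 128 3510 b J = true := fun b h1 h2 => by
  have hb : b = 13 := Nat.le_antisymm (Nat.le_of_lt_succ h2) h1
  subst hb; exact ⟨_, lblk_13⟩
theorem lo_12_14 : ∀ b, 12 ≤ b → b < 14 → ∃ J, chkPBlk P 5 31 128 3510 b J = true := fun b h1 h2 =>
  if h : b < 13 then lo_12_13 b h1 h else lo_13_14 b (Nat.le_of_not_lt h) h2
theorem lo_10_14 : ∀ b, 10 ≤ b → b < 14 → ∃ J, chkPBlk P 5 31 128 3510 b J = true := fun b h1 h2 =>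
  if h : b < 12 then lo_10_12 b h1 h else lo_12_14 b (Nat.le_of_not_lt h) h2
theorem lo_7_14 : ∀ b, 7 ≤ b → b < 14 → ∃ J, chkPBlk P 5 31 128 3510 b J = true := fun b h1 h2 =>
  if h : b < 10 then lo_7_10 b h1 h else lo_10_14 b (Nat.le_of_not_lt h) h2

end Cfsg.Agent.Lib.Helper29.S1687
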