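import Cfsg.Agent.Lib.Helper29.S1687.Data

set_option autoImplicit false

namespace Cfsg.Agent.Lib.Helper29.S1687

open Cfsg.Agent.Lib.Helper29.TcTrace Cfsg.Agent.Lib.Helper29.TcCert Cfsg.Agent.Lib.Helper29.TcPerm

theorem lblk_14 : chkPBlk P 5 31 128 3510 14 0x415293a0e8320a8311054a0a94252742068311054a0a9424e6225281a0c429105499272a4e8414e849d082952849c884a4e54250920d274152820ce33a0e82a4e819527420693a08740d27225034a103 = true := by decide +kernel
theorem lblk_15 : chkPBlk P 5 31 128 3510 15 0x49c884112742067420a9314851a4e828d274110818d2821528220693a12740ce841d0730865424e841cc8408693a10340ce8311054952821d0829067415233a0c82a52641528208c54a12719d07420a9 = true := by decide +kernel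
theorem lblk_16 : chkPBlk P 5 31 128 3510 16 0x398432a127420e64204349d081a067418882a4a94110419d041a4e831105414c82a526220a419c673a107420a719d083a0c4415282a0a719d08418854152949468310a82a52939c6741d042a0a9424e8 = true := by decide +kernel
theorem lblk_17 : chkPBlk P 5 31 128 3510 17 0x3110520ce339d083a10538ce841d06220a94150538ce8420c42a0a94a4a3418854152949ce33a0e8215054a127424e4420893a1033a105498a428d27414693a08840c69410a94110349d093a067420e8 = true := by decide +kernel
theorem lblk_18 : chkPBlk P 5 31 128 3510 18 0x418e83a0e6421033a08338ce83a10741d0441c633a0882a10538d06294633a10841467410a42a4693a0a349d0849d0549d0540d274110340ce938d08220e240ca93a0a820ce820d27418882a0a641529 = true := by decide +kernel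
theorem lblk_19 : chkPBlk P 5 31 128 3510 19 0x420e82a52740ce41a4e831d0741cc8420674106719d07420e83a08838c6741105420a71a0c528c674210828ce82148548d27414693a1093a0a93a0a81a4e82206819d271a10441c48195274146720d27 = true := by decide +kernel
theorem lblk_20 : chkPBlk P 5 31 128 3510 20 0x38ce84106741d073a10339ce71a105215233952339d293a12741c693a10819d083a0a949d021912719c6739c6321c6738ce33a10419d0741ce840ce739c684148548ce548ce74a4e849d071a4e842067 = true := by decide +kernel
theorem lo_14_15 : ∀ b, 14 ≤ b → b < 15 → ∃ J, chkPBlk P 5 31 128 3510 b J = true := fun b h1 h2 => by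
  have hb : b = 14 := Nat.le_antisymm (Nat.le_of_lt_succ h2) h1
  subst hb; exact ⟨_, lblk_14⟩
theorem lo_15_16 : ∀ b, 15 ≤ b → b < 16 → ∃ J, chkPBlk P 5 31 128 3510 b J = true := fun b h1 h2 => by
  have hb : b = 15 := Nat.le_antisymm (Nat.le_of_lt_succ h2) h1
  subst hb; exact ⟨_, lblk_15⟩
theorem lo_16_17 : ∀ b, 16 ≤ b → b < 17 → ∃ J, chkPBlk P 5 31 128 3510 b J = true := fun b h1 h2 => by
  have hb : b = 16 := Nat.le_antisymm (Nat.le_of_lt_succ h2) h1
  subst hb; exact ⟨_, lblk_16⟩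
theorem lo_15_17 : ∀ b, 15 ≤ b → b < 17 → ∃ J, chkPBlk P 5 31 128 3510 b J = true := fun b h1 h2 =>
  if h : b < 16 then lo_15_16 b h1 h else lo_16_17 b (Nat.le_of_not_lt h) h2
theorem lo_14_17 : ∀ b, 14 ≤ b → b < 17 → ∃ J, chkPBlk P 5 31 128 3510 b J = true := fun b h1 h2 =>
  if h : b < 15 then lo_14_15 b h1 h else lo_15_17 b (Nat.le_of_not_lt h) h2
theorem lo_17_18 : ∀ b, 17 ≤ b → b < 18 → ∃ J, chkPBlk P 5 31 128 3510 b J = true := fun b h1 h2 => by
  have hb : b = 17 := Nat.le_antisymm (Nat.le_of_lt_succ h2) h1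
  subst hb; exact ⟨_, lblk_17⟩
theorem lo_18_19 : ∀ b, 18 ≤ b → b < 19 → ∃ J, chkPBlk P 5 31 128 3510 b J = true := fun b h1 h2 => by
  have hb : b = 18 := Nat.le_antisymm (Nat.le_of_lt_succ h2) h1
  subst hb; exact ⟨_, lblk_18⟩
theorem lo_17_19 : ∀ b, 17 ≤ b → b < 19 → ∃ J, chkPBlk P 5 31 128 3510 b J = true := fun b h1 h2 =>
  if h : b < 18 then lo_17_18 b h1 h else lo_18_19 b (Nat.le_of_not_lt h) h2
theorem lo_19_20 : ∀ b, 19 ≤ b → b < 20 → ∃ J, chkPBlk P 5 31 128 3510 b J = true := fun b h1 h2 => by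
  have hb : b = 19 := Nat.le_antisymm (Nat.le_of_lt_succ h2) h1
  subst hb; exact ⟨_, lblk_19⟩
theorem lo_20_21 : ∀ b, 20 ≤ b → b < 21 → ∃ J, chkPBlk P 5 31 128 3510 b J = true := fun b h1 h2 => by
  have hb : b = 20 := Nat.le_antisymm (Nat.le_of_lt_succ h2) h1
  subst hb; exact ⟨_, lblk_20⟩
theorem lo_19_21 : ∀ b, 19 ≤ b → b < 21 → ∃ J, chkPBlk P 5 31 128 3510 b J = true := fun b h1 h2 =>
  if h : b < 20 then lo_19_20 b h1 h else lo_20_21 b (Nat.le_of_not_lt h) h2
theorem lo_17_21 : ∀ b, 17 ≤ b → b < 21 → ∃ J, chkPBlk P 5 31 128 3510 b J = true := fun b h1 h2 =>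
  if h : b < 19 then lo_17_19 b h1 h else lo_19_21 b (Nat.le_of_not_lt h) h2
theorem lo_14_21 : ∀ b, 14 ≤ b → b < 21 → ∃ J, chkPBlk P 5 31 128 3510 b J = true := fun b h1 h2 =>
  if h : b < 17 then lo_14_17 b h1 h else lo_17_21 b (Nat.le_of_not_lt h) h2

end Cfsg.Agent.Lib.Helper29.S1687
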