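import Cfsg.Agent.Lib.Helper29.S1687.Data

set_option autoImplicit false

namespace Cfsg.Agent.Lib.Helper29.S1687

open Cfsg.Agent.Lib.Helper29.TcTrace Cfsg.Agent.Lib.Helper29.TcCert Cfsg.Agent.Lib.Helper29.TcPerm

theorem lblk_21 : chkPBlk P 5 31 128 3510 21 0x2106920c6741522188841a48319d05488621906320c6721c6719c64414654246719d2339ce741d052a46710c8319063390e338ce3220a32a12338ce919ce73a0e8295233886449c6719ce718c8719ce3 = true := by decide +kernel
theorem lblk_22 : chkPBlk P 5 31 128 3510 22 0x30cc620ce829d044152741505494c3310a919d05424e941d0441529410c42a4a7425054a109498c42a4e742528220a940ca93a509424e9310a9421281a4e942127315281a4e640ce51a0e5390e410d62 = true := by decide +kernel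
theorem lblk_23 : chkPBlk P 5 31 128 3510 23 0x3148248d271a4e819d06208693a4e5398a62908341863418882a464124693a0693a0e8310e84152849d05308c23a0c41a4e83a08828ce8414e6118662086741887415282a4e349d033a0882a0a93a505 = true := by decide +kernel
theorem lblk_24 : chkPBlk P 5 31 128 3510 24 0x491262a4a4320a9208a91952410c67415073084918d27420c339106220a9115232a44548d233a4e84186248d09390e5494c5120682a445221241152349c8248d271a4e84186349ce8311054152349d25 = true := by decide +kernel
theorem lblk_25 : chkPBlk P 5 31 128 3510 25 0x220a94952741c8819d094910922527420e5398e241cc24a0c321868311054a4882a4674a1292a4c549486220a9209292a48421d08394e64248248d29415073086830d06214c441524124e829cc949ce4 = true := by decide +kernel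
theorem lblk_26 : chkPBlk P 5 31 128 3510 26 0x424e8424e83a12941507309033a0c43a0a93a1053a0c8419052a503415052a5274a0883a0a84a0a849ce849c8819ca839d07399283984329cc24a10619d04415091a0a9194e8419054a4a9314c822125 = true := by decide +kernel
theorem lblk_27 : chkPBlk P 5 31 128 3510 27 0x1293a527495293a0a849d0840d274206742107421284210941d082a4e8425081a4e9 = true := by decide +kernel
theorem lo_21_22 : ∀ b, 21 ≤ b → b < 22 → ∃ J, chkPBlk P 5 31 128 3510 b J = true := fun b h1 h2 => by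
  have hb : b = 21 := Nat.le_antisymm (Nat.le_of_lt_succ h2) h1
  subst hb; exact ⟨_, lblk_21⟩
theorem lo_22_23 : ∀ b, 22 ≤ b → b < 23 → ∃ J, chkPBlk P 5 31 128 3510 b J = true := fun b h1 h2 => by
  have hb : b = 22 := Nat.le_antisymm (Nat.le_of_lt_succ h2) h1
  subst hb; exact ⟨_, lblk_22⟩
theorem lo_23_24 : ∀ b, 23 ≤ b → b < 24 → ∃ J, chkPBlk P 5 31 128 3510 b J = true := fun b h1 h2 => by
  have hb : b = 23 := Nat.le_antisymm (Nat.le_of_lt_succ h2) h1
  subst hb; exact ⟨_, lblk_23⟩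
theorem lo_22_24 : ∀ b, 22 ≤ b → b < 24 → ∃ J, chkPBlk P 5 31 128 3510 b J = true := fun b h1 h2 =>
  if h : b < 23 then lo_22_23 b h1 h else lo_23_24 b (Nat.le_of_not_lt h) h2
theorem lo_21_24 : ∀ b, 21 ≤ b → b < 24 → ∃ J, chkPBlk P 5 31 128 3510 b J = true := fun b h1 h2 =>
  if h : b < 22 then lo_21_22 b h1 h else lo_22_24 b (Nat.le_of_not_lt h) h2
theorem lo_24_25 : ∀ b, 24 ≤ b → b < 25 → ∃ J, chkPBlk P 5 31 128 3510 b J = true := fun b h1 h2 => by
  have hb : b = 24 := Nat.le_antisymm (Nat.le_of_lt_succ h2) h1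
  subst hb; exact ⟨_, lblk_24⟩
theorem lo_25_26 : ∀ b, 25 ≤ b → b < 26 → ∃ J, chkPBlk P 5 31 128 3510 b J = true := fun b h1 h2 => by
  have hb : b = 25 := Nat.le_antisymm (Nat.le_of_lt_succ h2) h1
  subst hb; exact ⟨_, lblk_25⟩
theorem lo_24_26 : ∀ b, 24 ≤ b → b < 26 → ∃ J, chkPBlk P 5 31 128 3510 b J = true := fun b h1 h2 =>
  if h : b < 25 then lo_24_25 b h1 h else lo_25_26 b (Nat.le_of_not_lt h) h2
theorem lo_26_27 : ∀ b, 26 ≤ b → b < 27 → ∃ J, chkPBlk P 5 31 128 3510 b J = true := fun b h1 h2 => by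
  have hb : b = 26 := Nat.le_antisymm (Nat.le_of_lt_succ h2) h1
  subst hb; exact ⟨_, lblk_26⟩
theorem lo_27_28 : ∀ b, 27 ≤ b → b < 28 → ∃ J, chkPBlk P 5 31 128 3510 b J = true := fun b h1 h2 => by
  have hb : b = 27 := Nat.le_antisymm (Nat.le_of_lt_succ h2) h1
  subst hb; exact ⟨_, lblk_27⟩
theorem lo_26_28 : ∀ b, 26 ≤ b → b < 28 → ∃ J, chkPBlk P 5 31 128 3510 b J = true := fun b h1 h2 =>
  if h : b < 27 then lo_26_27 b h1 h else lo_27_28 b (Nat.le_of_not_lt h) h2
theorem lo_24_28 : ∀ b, 24 ≤ b → b < 28 → ∃ J, chkPBlk P 5 31 128 3510 b J = true := fun b h1 h2 =>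
  if h : b < 26 then lo_24_26 b h1 h else lo_26_28 b (Nat.le_of_not_lt h) h2
theorem lo_21_28 : ∀ b, 21 ≤ b → b < 28 → ∃ J, chkPBlk P 5 31 128 3510 b J = true := fun b h1 h2 =>
  if h : b < 24 then lo_21_24 b h1 h else lo_24_28 b (Nat.le_of_not_lt h) h2

end Cfsg.Agent.Lib.Helper29.S1687
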